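import Cfsg.Agent.H364.XR.Crit

/-!
# S4791 + S4927: a criterion with `R` extendible members (helper703)

* `row_of_mul` : `2 ≤ R`, `ExtY p M S R`, `p - 1 < R * (x₀ - R)` give the row;
* `row_of_add` : the same with a lower bound for `x₀`.
-/

set_option autoImplicit false

namespace Cfsg.Agent.H703.XZ

open Cfsg Subgroup Cfsg.Agent.H508.KB Cfsg.Agent.H674.XZ Cfsg.Agent.H668.XZ
open Cfsg.Agent.H508.XR (ExtY)

universe u

variable {p : ℕ} [hp : Fact p.Prime] {M : Ideal AlgInt} {S : Type u} [Group S] [Finite S]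

/-- **The criterion**: `R ≥ 2` extendible members of `X₀(S)` and `p - 1 < R (x₀(S) - R)`. -/
theorem row_of_mul (hM : IsPModular p M) (hab : AbOut p S) {R : ℕ} (hR : 2 ≤ R) (hext : ExtY p M S R)
    (hk : p - 1 < R * (x0 p M S - R)) : Row0 p M S := by
  refine H364.XR.row0_of_num hM hab (by omega) hext le_rfl (fun f u hf hx => ?_) fun f u C hf hx hC => ?_
  · have h1 : R * (x0 p M S - R) ≤ R * (f * u) := Nat.mul_le_mul_left _ (by omega)
    have h2 := H364.XR.four_mul_le_sq_add (f * R) u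
    have h3 : f * R * u = R * (f * u) := by ring
    rw [h3] at h2
    omega
  · obtain ⟨r, rfl⟩ : ∃ r, R = r + 2 := ⟨R - 2, by omega⟩
    have h1 : (r + 2) * (x0 p M S - (r + 2)) ≤ (r + 2) * (f * u) := Nat.mul_le_mul_left _ (by omega)
    obtain ⟨D, hD⟩ : ∃ D, f * (r + 2 - 1) + C + 1 - (r + 2) = D := ⟨_, rfl⟩
    rw [hD]
    have e1 : (u + (r + 2)) * (u + (r + 2) + 1) = u * u + 2 * u * r + 5 * u + r * r + 5 * r + 6 := by ring
    rw [e1] at hC
    have e2 : f * (r + 2 - 1) = f * r + f := by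
      rw [show r + 2 - 1 = r + 1 by omega]
      ring
    rw [e2] at hD
    have h2 : 2 * (f * r + f) + (u * u + 2 * u * r + 5 * u) ≤ 2 * D := by
      have := Nat.zero_le (r * r)
      omega
    have h3 := Nat.pow_le_pow_left h2 2
    have h4 := H364.XR.four_mul_le_sq_add (2 * (f * r + f)) (u * u + 2 * u * r + 5 * u)
    have h5 : 4 * ((r + 2) * (f * u)) ≤ 2 * (f * r + f) * (u * u + 2 * u * r + 5 * u) :=
      Nat.le.intro (k := 2 * f * r * u * u + 4 * f * r * r * u + 2 * f * u * u + 10 * f * r * u + 2 * f * u) (by ring)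
    have h6 : (2 * D) ^ 2 = 4 * D ^ 2 := by ring
    rw [h6] at h3
    omega

/-- two sorts of members: `N` and `n` -/
theorem row_of_add (hM : IsPModular p M) (hab : AbOut p S) {R x : ℕ} (hR : 2 ≤ R) (hext : ExtY p M S R)
    (hx : x ≤ x0 p M S) (hk : p - 1 < R * (x - R)) : Row0 p M S :=
  row_of_mul hM hab hR hext (lt_of_lt_of_le hk (Nat.mul_le_mul_left _ (by omega)))

end Cfsg.Agent.H703.XZ
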